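import Cfsg.Agent.H893.KGV.Field

/-!
# k(G) < |V|, the primitive case: existence of the central configuration (helper893)
-/

set_option autoImplicit false
set_option linter.unusedSectionVars false
set_option linter.style.haveILetI false

namespace Cfsg.Agent.H893.KGV

open Cfsg Cfsg.Agent.H960.KGV

variable {p : ℕ} [Fact p.Prime] {V : Type} [AddCommGroup V] [Module (ZMod p) V] [Finite V]

/-- the centralizer algebra -/
abbrev cen (N : Subgroup (V ≃ₗ[ZMod p] V)) : Subalgebra (ZMod p) (Module.End (ZMod p) V) :=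
  Subalgebra.centralizer (ZMod p) ((fun g : V ≃ₗ[ZMod p] V => lm g) '' (N : Set (V ≃ₗ[ZMod p] V)))

theorem mem_cen {N : Subgroup (V ≃ₗ[ZMod p] V)} {x : Module.End (ZMod p) V} :
    x ∈ cen N ↔ ∀ g ∈ N, lm g * x = x * lm g := by
  rw [Subalgebra.mem_centralizer_iff]
  constructor
  · intro h g hg
    exact h _ ⟨g, hg, rfl⟩
  · rintro h _ ⟨g, hg, rfl⟩
    exact h g hg

theorem cen_comm {N : Subgroup (V ≃ₗ[ZMod p] V)} {x : Module.End (ZMod p) V} (hx : x ∈ cen N) :
    ∀ y ∈ alg N, y * x = x * y := by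
  intro y hy
  induction hy using Algebra.adjoin_induction with
  | mem z hz =>
    obtain ⟨g, hg, rfl⟩ := hz
    exact mem_cen.1 hx g hg
  | algebraMap r => rw [Algebra.commutes]
  | add y z _ _ hy hz => rw [mul_add, add_mul, hy, hz]
  | mul y z _ _ hy hz => rw [mul_assoc, hz, ← mul_assoc, hy, mul_assoc]

/-- Schur's lemma -/
theorem schur {N : Subgroup (V ≃ₗ[ZMod p] V)} (hs : IsSimpleModule (alg N) V) :
    ∀ x ∈ cen N, x ≠ 0 → Function.Injective x := by
  intro x hx hx0
  let U : Submodule (alg N) V :=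
    { carrier := {u | x u = 0}
      add_mem' := fun {a b} ha hb => by
        show x (a + b) = 0
        rw [map_add, show x a = 0 from ha, show x b = 0 from hb, add_zero]
      zero_mem' := map_zero x
      smul_mem' := fun c u hu => by
        show x ((c : Module.End (ZMod p) V) u) = 0
        have h1 : (x * c) u = (c * x) u := by rw [cen_comm hx c c.2]
        have h2 : x ((c : Module.End (ZMod p) V) u) = (c : Module.End (ZMod p) V) (x u) := h1
        rw [h2, show x u = 0 from hu, map_zero] }
  rw [injective_iff_map_eq_zero]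
  intro v hv
  rcases eq_bot_or_eq_top U with h | h
  · have h2 : v ∈ U := hv
    rw [h] at h2
    exact h2
  · exfalso
    apply hx0
    ext w
    have h2 : w ∈ U := h ▸ Submodule.mem_top
    exact h2

/-- `H` normalizes the centralizer algebra of a normal subgroup -/
theorem cen_conj (H : Subgroup (V ≃ₗ[ZMod p] V)) (N : Subgroup H) (hN : N.Normal) :
    ∀ h ∈ H, ∀ x ∈ cen (N.map H.subtype), lm h * x * lm h⁻¹ ∈ cen (N.map H.subtype) := by
  intro h hh x hx
  rw [mem_cen] at hx ⊢
  rintro _ ⟨n, hn, rfl⟩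
  have h1 : lm h⁻¹ * lm h = 1 := by rw [← map_mul, inv_mul_cancel, map_one]
  have h2 : lm h * lm h⁻¹ = 1 := by rw [← map_mul, mul_inv_cancel, map_one]
  have h3 := hN.conj_mem n hn (⟨h, hh⟩⁻¹ : H)
  have h4 := hx _ ⟨_, h3, rfl⟩
  have h5 : lm (H.subtype ((⟨h, hh⟩⁻¹ : H) * n * (⟨h, hh⟩⁻¹ : H)⁻¹)) = lm h⁻¹ * lm (n : V ≃ₗ[ZMod p] V) * lm h := by
    rw [← map_mul, ← map_mul, inv_inv]
    rfl
  rw [h5] at h4
  show lm (n : V ≃ₗ[ZMod p] V) * (lm h * x * lm h⁻¹) = lm h * x * lm h⁻¹ * lm (n : V ≃ₗ[ZMod p] V)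
  calc lm (n : V ≃ₗ[ZMod p] V) * (lm h * x * lm h⁻¹)
      = (lm h * lm h⁻¹) * lm (n : V ≃ₗ[ZMod p] V) * (lm h * x * lm h⁻¹) := by rw [h2, one_mul]
    _ = lm h * ((lm h⁻¹ * lm (n : V ≃ₗ[ZMod p] V) * lm h) * x) * lm h⁻¹ := by simp only [mul_assoc]
    _ = lm h * (x * (lm h⁻¹ * lm (n : V ≃ₗ[ZMod p] V) * lm h)) * lm h⁻¹ := by rw [h4]
    _ = lm h * x * lm h⁻¹ * lm (n : V ≃ₗ[ZMod p] V) * (lm h * lm h⁻¹) := by simp only [mul_assoc]
    _ = lm h * x * lm h⁻¹ * lm (n : V ≃ₗ[ZMod p] V) := by rw [h2, mul_one]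

section Gen

variable {F W : Type} [Field F] [AddCommGroup W] [Module F W] {a : ℕ}

/-- matrices of automorphisms -/
noncomputable def toGL (b : Module.Basis (Fin a) F W) : (W ≃ₗ[F] W) →* GL (Fin a) F :=
  (Units.mapEquiv (LinearMap.toMatrixAlgEquiv b).toMulEquiv).toMonoidHom.comp
    (LinearMap.GeneralLinearGroup.generalLinearEquiv F W).symm.toMonoidHom

theorem toGL_coe (b : Module.Basis (Fin a) F W) (g : W ≃ₗ[F] W) :
    (toGL b g : Matrix (Fin a) (Fin a) F) = LinearMap.toMatrix b b (g : W →ₗ[F] W) := rfl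

theorem toGL_mulVec (b : Module.Basis (Fin a) F W) (g : W ≃ₗ[F] W) (v : W) :
    (toGL b g : Matrix (Fin a) (Fin a) F).mulVec (b.equivFun v) = b.equivFun (g v) := by
  rw [toGL_coe, Module.Basis.equivFun_apply, Module.Basis.equivFun_apply, LinearMap.toMatrix_mulVec_repr]
  rfl

theorem toGL_injective (b : Module.Basis (Fin a) F W) : Function.Injective (toGL b) := by
  intro g h e
  ext v
  have h1 := toGL_mulVec b g v
  rw [e, toGL_mulVec] at h1
  exact b.equivFun.injective h1.symm

theorem toGL_scalar (b : Module.Basis (Fin a) F W) (g : W ≃ₗ[F] W) (s : F) :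
    (toGL b g : Matrix (Fin a) (Fin a) F) = s • (1 : Matrix (Fin a) (Fin a) F) ↔ ∀ v, g v = s • v := by
  rw [toGL_coe]
  constructor
  · intro h v
    have h1 : (g : W →ₗ[F] W) = s • LinearMap.id := by
      apply (LinearMap.toMatrix b b).injective
      rw [h, map_smul, LinearMap.toMatrix_id]
    exact congrArg (fun y : W →ₗ[F] W => y v) h1
  · intro h
    have h1 : (g : W →ₗ[F] W) = s • LinearMap.id := by
      ext v
      exact h v
    rw [h1, map_smul, LinearMap.toMatrix_id]

theorem toGL_comm (b : Module.Basis (Fin a) F W) (g : W ≃ₗ[F] W) (M : Matrix (Fin a) (Fin a) F)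
    (h : M * (toGL b g : Matrix (Fin a) (Fin a) F) = (toGL b g : Matrix (Fin a) (Fin a) F) * M) (v : W) :
    Matrix.toLin b b M (g v) = g (Matrix.toLin b b M v) := by
  rw [toGL_coe] at h
  have h1 := congrArg (Matrix.toLin b b) h
  rw [Matrix.toLin_mul b b b, Matrix.toLin_mul b b b, Matrix.toLin_toMatrix] at h1
  exact congrArg (fun y : W →ₗ[F] W => y v) h1

end Gen

section Mat

variable {K : Subalgebra (ZMod p) (Module.End (ZMod p) V)}

/-- the `K`-linear map -/
def fl {X : Type} [Group X] (j : X →* (V ≃ₗ[ZMod p] V)) (hj : ∀ c, ∀ x ∈ K, lm (j c) * x = x * lm (j c)) :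
    X →* (V ≃ₗ[K] V) where
  toFun c :=
    { toFun := fun v => j c v
      map_add' := fun u v => map_add _ u v
      map_smul' := fun x v => congrArg (fun y : Module.End (ZMod p) V => y v) (hj c x x.2)
      invFun := fun v => (j c).symm v
      left_inv := fun v => (j c).symm_apply_apply v
      right_inv := fun v => (j c).apply_symm_apply v }
  map_one' := by
    ext v
    show j 1 v = v
    rw [map_one]
    rfl
  map_mul' a b := by
    ext v
    show j (a * b) v = j a (j b v)
    rw [map_mul]
    rfl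

theorem fl_apply {X : Type} [Group X] (j : X →* (V ≃ₗ[ZMod p] V)) (hj : ∀ c, ∀ x ∈ K, lm (j c) * x = x * lm (j c))
    (c : X) (v : V) : fl j hj c v = j c v := rfl

end Mat

theorem exists_core (H : Subgroup (V ≃ₗ[ZMod p] V)) (hH : ¬ p ∣ Nat.card H) (A N : Subgroup H) (hA : A.Normal)
    (hN : N.Normal) (hAN : A ≤ N) (hne : A ≠ N) (hAc : ∀ x ∈ A, ∀ y ∈ N, x * y = y * x)
    (hmax : ∀ B : Subgroup H, B.Normal → A ≤ B → (∀ x ∈ B, ∀ y ∈ B, x * y = y * x) → B = A)
    (hmin : ∀ M : Subgroup H, M.Normal → A ≤ M → M ≤ N → M = A ∨ M = N)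
    (hs : IsSimpleModule (alg (N.map H.subtype)) V) :
    ∃ (C : Subgroup H) (f a : ℕ) (F : Type) (_ : Field F) (ψ : C →* GL (Fin a) F),
      Core A N C p f a ψ ∧ Nat.card V = (p ^ f) ^ a := by
  have hfE : Finite (Module.End (ZMod p) V) := finite_end
  have hfG : Finite (V ≃ₗ[ZMod p] V) := finite_equiv
  have hV : Nontrivial V := IsSimpleModule.nontrivial (alg (N.map H.subtype)) V
  have hinj := schur hs
  have hf := isField hinj
  have hn := cen_conj H N hN
  obtain ⟨f, hf1, hcK, hcA⟩ := card_field hf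
  generalize hE : cen (N.map H.subtype) = E at hinj hf hn hcK hcA
  letI : Field E := hf.toField
  set C : Subgroup H := (cj H E hn).ker with hCdef
  have hmemC : ∀ h : H, h ∈ C ↔ ∀ x ∈ E, lm (h : V ≃ₗ[ZMod p] V) * x = x * lm (h : V ≃ₗ[ZMod p] V) :=
    fun h => mem_ker_cj hn h
  have hmemE : ∀ x : Module.End (ZMod p) V, x ∈ E ↔ ∀ n ∈ N, lm (n : V ≃ₗ[ZMod p] V) * x = x * lm (n : V ≃ₗ[ZMod p] V) := by
    intro x
    rw [← hE, mem_cen]
    constructor
    · intro h n hn
      exact h _ ⟨n, hn, rfl⟩
    · rintro h _ ⟨n, hn, rfl⟩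
      exact h n hn
  have hcommE : ∀ x ∈ E, ∀ y ∈ E, x * y = y * x := by
    intro x hx y hy
    exact congrArg Subtype.val (mul_comm (⟨x, hx⟩ : E) ⟨y, hy⟩)
  have hAlg : ∀ y ∈ alg (N.map H.subtype), ∀ x ∈ E, y * x = x * y := by
    intro y hy x hx
    rw [← hE] at hx
    exact cen_comm hx y hy
  -- `A = C_H(N)`
  have hcen : ∀ h : H, (∀ n ∈ N, n * h = h * n) → h ∈ A := by
    have h1 : Subgroup.centralizer (N : Set H) = A := by
      refine hmax _ inferInstance ?_ ?_
      · intro x hx
        rw [Subgroup.mem_centralizer_iff]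
        intro n hn
        exact (hAc x hx n hn).symm
      · intro x hx y hy
        rw [Subgroup.mem_centralizer_iff] at hx hy
        have hx' : lm (x : V ≃ₗ[ZMod p] V) ∈ E := by
          rw [hmemE]
          intro n hn
          rw [← map_mul, ← map_mul]
          exact congrArg (fun z : H => lm (z : V ≃ₗ[ZMod p] V)) (hx n hn)
        have hy' : lm (y : V ≃ₗ[ZMod p] V) ∈ E := by
          rw [hmemE]
          intro n hn
          rw [← map_mul, ← map_mul]
          exact congrArg (fun z : H => lm (z : V ≃ₗ[ZMod p] V)) (hy n hn)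
        apply Subtype.ext
        apply lm_injective
        exact hcommE _ hx' _ hy'
    intro h hh
    rw [← h1, Subgroup.mem_centralizer_iff]
    exact fun n hn => hh n hn
  have hAmem : ∀ h : H, h ∈ A ↔ lm (h : V ≃ₗ[ZMod p] V) ∈ E := by
    intro h
    rw [hmemE]
    constructor
    · intro hh n hn
      rw [← map_mul, ← map_mul]
      exact congrArg (fun z : H => lm (z : V ≃ₗ[ZMod p] V)) (hAc h hh n hn).symm
    · intro hh
      refine hcen h fun n hn => ?_
      apply Subtype.ext
      apply lm_injective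
      exact hh n hn
  have hNC : N ≤ C := by
    intro n hn
    rw [hmemC]
    intro x hx
    exact (hmemE x).1 hx n hn
  -- matrices
  let j : C →* (V ≃ₗ[ZMod p] V) := H.subtype.comp C.subtype
  have hj : ∀ c : C, ∀ x ∈ E, lm (j c) * x = x * lm (j c) := fun c => (hmemC c).1 c.2
  let b : Module.Basis (Fin (Module.finrank E V)) E V := Module.finBasis E V
  refine ⟨C, f, Module.finrank E V, E, inferInstance, (toGL b).comp (fl j hj), ⟨Fact.out, inferInstance, hH, hA, hN,
    inferInstance, hAN, hne, hNC, index_dvd hn hcA, hcK, ?_, ?_, ?_, ?_, hmin, ?_⟩, ?_⟩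
  · -- injective
    refine (toGL_injective b).comp fun c d h => ?_
    apply Subtype.ext
    apply Subtype.ext
    ext v
    exact congrArg (fun y : V ≃ₗ[E] V => y v) h
  · -- scalars
    intro c
    rw [hAmem]
    constructor
    · intro h
      refine ⟨⟨_, h⟩, ?_⟩
      exact (toGL_scalar b (fl j hj c) ⟨_, h⟩).2 fun v => rfl
    · rintro ⟨s, hs⟩
      have h1 := (toGL_scalar b (fl j hj c) s).1 hs
      have h2 : lm ((c : H) : V ≃ₗ[ZMod p] V) = s := by
        ext v
        exact h1 v
      rw [h2]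
      exact s.2
  · -- irreducible
    intro U hU
    let W : Submodule (alg (N.map H.subtype)) V :=
      { carrier := {v | b.equivFun v ∈ U}
        add_mem' := fun {u v} hu hv => by
          show b.equivFun (u + v) ∈ U
          rw [map_add]
          exact U.add_mem hu hv
        zero_mem' := by
          show b.equivFun 0 ∈ U
          rw [map_zero]
          exact U.zero_mem
        smul_mem' := by
          rintro ⟨x, hx⟩ u hu
          show b.equivFun (x u) ∈ U
          have hu' : b.equivFun u ∈ U := hu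
          clear hu
          induction hx using Algebra.adjoin_induction generalizing u with
          | mem x hx =>
            obtain ⟨g, ⟨n, hn, rfl⟩, rfl⟩ := hx
            have h1 := hU ⟨n, hNC hn⟩ hn _ hu'
            have h2 := toGL_mulVec b (fl j hj ⟨n, hNC hn⟩) u
            rw [show ((((toGL b).comp (fl j hj)) ⟨n, hNC hn⟩ : GL (Fin (Module.finrank E V)) E) :
              Matrix (Fin (Module.finrank E V)) (Fin (Module.finrank E V)) E) =
              (toGL b (fl j hj ⟨n, hNC hn⟩) : Matrix _ _ E) from rfl, h2] at h1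
            exact h1
          | algebraMap r =>
            have h1 : (algebraMap (ZMod p) (Module.End (ZMod p) V) r) u = (algebraMap (ZMod p) E r) • u := rfl
            rw [h1, map_smul]
            exact U.smul_mem _ hu'
          | add x y _ _ hx hy =>
            rw [LinearMap.add_apply, map_add]
            exact U.add_mem (hx hu') (hy hu')
          | mul x y _ _ hx hy =>
            rw [Module.End.mul_apply]
            exact hx (hy hu') }
    rcases eq_bot_or_eq_top W with h | h
    · left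
      rw [eq_bot_iff]
      intro u hu
      have h1 : b.equivFun.symm u ∈ W := by
        show b.equivFun (b.equivFun.symm u) ∈ U
        rwa [LinearEquiv.apply_symm_apply]
      rw [h, Submodule.mem_bot] at h1
      rw [Submodule.mem_bot]
      exact (LinearEquiv.map_eq_zero_iff _).1 h1
    · right
      rw [eq_top_iff]
      intro u _
      have h1 : b.equivFun.symm u ∈ W := h ▸ Submodule.mem_top
      have h2 : b.equivFun (b.equivFun.symm u) ∈ U := h1
      rwa [LinearEquiv.apply_symm_apply] at h2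
  · -- absolutely irreducible
    intro M hM
    let L : Module.End (ZMod p) V :=
      { toFun := fun v => Matrix.toLin b b M v
        map_add' := fun u v => map_add _ u v
        map_smul' := fun r v => by
          have h1 : r • v = (algebraMap (ZMod p) E r) • v := rfl
          rw [h1, map_smul]
          rfl }
    have hL : L ∈ E := by
      rw [hmemE]
      intro n hn
      ext v
      exact (toGL_comm b (fl j hj ⟨n, hNC hn⟩) M (hM ⟨n, hNC hn⟩ hn) v).symm
    refine ⟨⟨L, hL⟩, ?_⟩
    have h1 : Matrix.toLin b b M = (⟨L, hL⟩ : E) • LinearMap.id := by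
      ext v
      rfl
    have h2 := congrArg (LinearMap.toMatrix b b) h1
    rwa [LinearMap.toMatrix_toLin, map_smul, LinearMap.toMatrix_id] at h2
  · -- the degree
    by_contra hlt
    have h1 : Module.finrank E V = 1 := by
      have h2 : 0 < Module.finrank E V := Module.finrank_pos
      omega
    apply hne
    refine le_antisymm hAN fun n hn => ?_
    rw [hAmem]
    obtain ⟨v, hv⟩ := exists_ne (0 : V)
    obtain ⟨x, hx⟩ := exists_smul_eq_of_finrank_eq_one h1 hv ((n : V ≃ₗ[ZMod p] V) v)
    have h3 : lm (n : V ≃ₗ[ZMod p] V) = x := by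
      ext w
      obtain ⟨y, hy⟩ := exists_smul_eq_of_finrank_eq_one h1 hv w
      have hy' : (y : Module.End (ZMod p) V) v = w := hy
      have hx' : (x : Module.End (ZMod p) V) v = (n : V ≃ₗ[ZMod p] V) v := hx
      have h4 : (lm (n : V ≃ₗ[ZMod p] V) * y) v = (y * lm (n : V ≃ₗ[ZMod p] V)) v := by
        rw [(hmemE y).1 y.2 n hn]
      have h5 : ((x : Module.End (ZMod p) V) * y) v = ((y : Module.End (ZMod p) V) * x) v := by
        rw [hcommE x x.2 y y.2]
      rw [← hy']
      calc lm (n : V ≃ₗ[ZMod p] V) ((y : Module.End (ZMod p) V) v)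
          = (y : Module.End (ZMod p) V) ((n : V ≃ₗ[ZMod p] V) v) := h4
        _ = (y : Module.End (ZMod p) V) ((x : Module.End (ZMod p) V) v) := by rw [hx']
        _ = (x : Module.End (ZMod p) V) ((y : Module.End (ZMod p) V) v) := h5.symm
    rw [h3]
    exact x.2
  · rw [Module.natCard_eq_pow_finrank (K := E), hcK]

end Cfsg.Agent.H893.KGV
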