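import Cfsg.Agent.H960.KGV.Core

/-!
# k(G) < |V|, the primitive case: fields of endomorphisms (helper893)

* `isField` : a subalgebra `K` of `End V` whose nonzero elements are injective is a field;
* `cj` : the action of `H` on `K` by conjugation, `index_dvd` : the kernel has index dividing `[K : F_p]`;
* **`field_case`**, **`exists_core`**.
-/

set_option autoImplicit false
set_option linter.unusedSectionVars false
set_option linter.style.haveILetI false

namespace Cfsg.Agent.H893.KGV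

open Cfsg Cfsg.Agent.H960.KGV

variable {p : ℕ} [Fact p.Prime] {V : Type} [AddCommGroup V] [Module (ZMod p) V] [Finite V]

/-- the linear map of an automorphism -/
abbrev lm : (V ≃ₗ[ZMod p] V) →* Module.End (ZMod p) V where
  toFun g := (g : V →ₗ[ZMod p] V)
  map_one' := rfl
  map_mul' _ _ := rfl

theorem finite_end : Finite (Module.End (ZMod p) V) :=
  Finite.of_injective (fun x : Module.End (ZMod p) V => (x : V → V)) DFunLike.coe_injective

theorem finite_equiv : Finite (V ≃ₗ[ZMod p] V) :=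
  Finite.of_injective (fun x : V ≃ₗ[ZMod p] V => (x : V → V)) DFunLike.coe_injective

variable {K : Subalgebra (ZMod p) (Module.End (ZMod p) V)}

theorem isField [Nontrivial V] (hK : ∀ x ∈ K, x ≠ 0 → Function.Injective x) : IsField K := by
  have : Finite (Module.End (ZMod p) V) := finite_end
  have : Nontrivial K := inferInstance
  have : NoZeroDivisors K := by
    refine ⟨?_⟩
    rintro ⟨x, hx⟩ ⟨y, hy⟩ h
    by_contra hc
    rw [not_or] at hc
    have hx0 : x ≠ 0 := fun h1 => hc.1 (Subtype.ext h1)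
    have hy0 : y ≠ 0 := fun h1 => hc.2 (Subtype.ext h1)
    have h1 : x * y = 0 := congrArg Subtype.val h
    apply hy0
    ext v
    apply hK x hx hx0
    have h2 := congrArg (fun z : Module.End (ZMod p) V => z v) h1
    simpa using h2
  have : IsDomain K := NoZeroDivisors.to_isDomain K
  exact Finite.isDomain_to_isField K

/-- conjugation -/
def cj (H : Subgroup (V ≃ₗ[ZMod p] V)) (K : Subalgebra (ZMod p) (Module.End (ZMod p) V))
    (hn : ∀ h ∈ H, ∀ x ∈ K, lm h * x * lm h⁻¹ ∈ K) : H →* (K ≃ₐ[ZMod p] K) where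
  toFun h := 
    { toFun := fun x => ⟨lm (h : V ≃ₗ[ZMod p] V) * x * lm (h : V ≃ₗ[ZMod p] V)⁻¹, hn _ h.2 _ x.2⟩
      invFun := fun x => ⟨lm (h : V ≃ₗ[ZMod p] V)⁻¹ * x * lm (h : V ≃ₗ[ZMod p] V), by
        have := hn _ (H.inv_mem h.2) _ x.2
        rwa [inv_inv] at this⟩
      left_inv := fun x => by
        apply Subtype.ext
        ext v
        simp
      right_inv := fun x => by
        apply Subtype.ext
        ext v
        simp
      map_mul' := fun x y => by
        apply Subtype.ext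
        ext v
        simp
      map_add' := fun x y => by
        apply Subtype.ext
        ext v
        simp
      commutes' := fun r => by
        apply Subtype.ext
        ext v
        simp }
  map_one' := by
    ext x v
    simp
  map_mul' a b := by
    ext x v
    simp

theorem mem_ker_cj {H : Subgroup (V ≃ₗ[ZMod p] V)} (hn : ∀ h ∈ H, ∀ x ∈ K, lm h * x * lm h⁻¹ ∈ K) (h : H) :
    h ∈ (cj H K hn).ker ↔ ∀ x ∈ K, lm (h : V ≃ₗ[ZMod p] V) * x = x * lm (h : V ≃ₗ[ZMod p] V) := by
  have h1 : lm (h : V ≃ₗ[ZMod p] V)⁻¹ * lm (h : V ≃ₗ[ZMod p] V) = 1 := by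
    rw [← map_mul, inv_mul_cancel, map_one]
  have h2 : lm (h : V ≃ₗ[ZMod p] V) * lm (h : V ≃ₗ[ZMod p] V)⁻¹ = 1 := by
    rw [← map_mul, mul_inv_cancel, map_one]
  rw [MonoidHom.mem_ker]
  constructor
  · intro h3 x hx
    have h4 : lm (h : V ≃ₗ[ZMod p] V) * x * lm (h : V ≃ₗ[ZMod p] V)⁻¹ = x :=
      congrArg (fun e : K ≃ₐ[ZMod p] K => ((e ⟨x, hx⟩ : K) : Module.End (ZMod p) V)) h3
    calc lm (h : V ≃ₗ[ZMod p] V) * x = lm (h : V ≃ₗ[ZMod p] V) * x *
          (lm (h : V ≃ₗ[ZMod p] V)⁻¹ * lm (h : V ≃ₗ[ZMod p] V)) := by rw [h1, mul_one]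
      _ = (lm (h : V ≃ₗ[ZMod p] V) * x * lm (h : V ≃ₗ[ZMod p] V)⁻¹) * lm (h : V ≃ₗ[ZMod p] V) := by
          rw [mul_assoc _ _ (lm (h : V ≃ₗ[ZMod p] V))]
      _ = _ := by rw [h4]
  · intro h3
    ext x : 1
    apply Subtype.ext
    show lm (h : V ≃ₗ[ZMod p] V) * x * lm (h : V ≃ₗ[ZMod p] V)⁻¹ = x
    rw [h3 x x.2, mul_assoc, h2, mul_one]

/-- the order and the number of automorphisms -/
theorem card_field (hf : IsField K) : ∃ f : ℕ, 1 ≤ f ∧ Nat.card K = p ^ f ∧ Nat.card (K ≃ₐ[ZMod p] K) = f := by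
  have : Finite (Module.End (ZMod p) V) := finite_end
  letI : Field K := hf.toField
  refine ⟨Module.finrank (ZMod p) K, Module.finrank_pos, ?_, ?_⟩
  · rw [Module.natCard_eq_pow_finrank (K := ZMod p), Nat.card_zmod]
  · exact IsGalois.card_aut_eq_finrank (ZMod p) K

theorem index_dvd {H : Subgroup (V ≃ₗ[ZMod p] V)} (hn : ∀ h ∈ H, ∀ x ∈ K, lm h * x * lm h⁻¹ ∈ K) {f : ℕ}
    (hf : Nat.card (K ≃ₐ[ZMod p] K) = f) : (cj H K hn).ker.index ∣ f := by
  rw [Subgroup.index_ker, ← hf]
  exact Subgroup.card_subgroup_dvd_card _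

theorem card_space [Nontrivial V] (hf : IsField K) : ∃ m : ℕ, 1 ≤ m ∧ Nat.card V = Nat.card K ^ m ∧
    (m = 1 → ∀ v w : V, v ≠ 0 → ∃ x ∈ K, x v = w) := by
  have : Finite (Module.End (ZMod p) V) := finite_end
  letI : Field K := hf.toField
  refine ⟨Module.finrank K V, Module.finrank_pos, ?_, ?_⟩
  · rw [Module.natCard_eq_pow_finrank (K := K)]
  · intro h v w hv
    obtain ⟨c, hc⟩ := exists_smul_eq_of_finrank_eq_one h hv w
    exact ⟨c, c.2, hc⟩

/-- `H` normalizes the algebra of a normal subgroup -/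
theorem alg_conj (H : Subgroup (V ≃ₗ[ZMod p] V)) (N : Subgroup H) (hN : N.Normal) :
    ∀ h ∈ H, ∀ x ∈ alg (N.map H.subtype), lm h * x * lm h⁻¹ ∈ alg (N.map H.subtype) := by
  intro h hh x hx
  have h1 : lm h⁻¹ * lm h = 1 := by rw [← map_mul, inv_mul_cancel, map_one]
  have h2 : lm h * lm h⁻¹ = 1 := by rw [← map_mul, mul_inv_cancel, map_one]
  induction hx using Algebra.adjoin_induction with
  | mem x hx =>
    obtain ⟨g, ⟨n, hn, rfl⟩, rfl⟩ := hx
    refine Algebra.subset_adjoin ⟨h * (n : V ≃ₗ[ZMod p] V) * h⁻¹, ⟨⟨h, hh⟩ * n * ⟨h, hh⟩⁻¹, hN.conj_mem _ hn _, rfl⟩, ?_⟩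
    rfl
  | algebraMap r =>
    rw [← Algebra.commutes, mul_assoc, h2, mul_one]
    exact Subalgebra.algebraMap_mem _ _
  | add x y _ _ hx hy =>
    rw [mul_add, add_mul]
    exact add_mem hx hy
  | mul x y _ _ hx hy =>
    have h3 : lm h * (x * y) * lm h⁻¹ = (lm h * x * lm h⁻¹) * (lm h * y * lm h⁻¹) := by
      calc lm h * (x * y) * lm h⁻¹ = lm h * x * 1 * y * lm h⁻¹ := by rw [mul_one]; simp only [mul_assoc]
        _ = lm h * x * (lm h⁻¹ * lm h) * y * lm h⁻¹ := by rw [h1]
        _ = _ := by simp only [mul_assoc]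
    rw [h3]
    exact mul_mem hx hy

theorem lm_injective : Function.Injective (lm : (V ≃ₗ[ZMod p] V) →* Module.End (ZMod p) V) := by
  intro a b h
  ext v
  exact congrArg (fun x : Module.End (ZMod p) V => x v) h

/-- the algebra of a commutative group is commutative -/
theorem alg_comm (A : Subgroup (V ≃ₗ[ZMod p] V)) (hA : ∀ x ∈ A, ∀ y ∈ A, x * y = y * x) :
    ∀ x ∈ alg A, ∀ y ∈ alg A, x * y = y * x := by
  have h1 : ∀ g ∈ A, ∀ y ∈ alg A, lm g * y = y * lm g := by
    intro g hg y hy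
    induction hy using Algebra.adjoin_induction with
    | mem x hx =>
      obtain ⟨g', hg', rfl⟩ := hx
      show lm g * lm g' = lm g' * lm g
      rw [← map_mul, ← map_mul, hA g hg g' hg']
    | algebraMap r => rw [← Algebra.commutes]
    | add x y _ _ hx hy => rw [mul_add, add_mul, hx, hy]
    | mul x y _ _ hx hy => rw [← mul_assoc, hx, mul_assoc, hy, mul_assoc]
  intro x hx y hy
  induction hx using Algebra.adjoin_induction with
  | mem x hx =>
    obtain ⟨g, hg, rfl⟩ := hx
    exact h1 g hg y hy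
  | algebraMap r => rw [← Algebra.commutes]
  | add x z _ _ hx hz => rw [mul_add, add_mul, hx, hz]
  | mul x z _ _ hx hz => rw [← mul_assoc, ← hx, mul_assoc, hz, mul_assoc]

/-- a commutative semisimple isotypic faithful algebra: the nonzero elements are injective -/
theorem inj_of_isotypic (hc : ∀ x ∈ K, ∀ y ∈ K, x * y = y * x) (hss : IsSemisimpleModule K V)
    (hiso : IsIsotypic K V) : ∀ x ∈ K, x ≠ 0 → Function.Injective x := by
  intro x hx hx0
  by_contra hinj
  apply hx0
  -- the kernel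
  let U : Submodule K V :=
    { carrier := {u | x u = 0}
      add_mem' := fun {a b} ha hb => by
        show x (a + b) = 0
        rw [map_add, show x a = 0 from ha, show x b = 0 from hb, add_zero]
      zero_mem' := map_zero x
      smul_mem' := fun c u hu => by
        show x ((c : Module.End (ZMod p) V) u) = 0
        have h1 : (x * c) u = (c * x) u := by rw [hc x hx c c.2]
        have h2 : x ((c : Module.End (ZMod p) V) u) = (c : Module.End (ZMod p) V) (x u) := h1
        rw [h2, show x u = 0 from hu, map_zero] }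
  have hU : U ≠ ⊥ := by
    intro h1
    apply hinj
    rw [injective_iff_map_eq_zero]
    intro v hv
    have h2 : v ∈ U := hv
    rw [h1] at h2
    exact h2
  have hex : ∃ S : Submodule K V, IsAtom S ∧ S ≤ U := by
    rcases IsAtomic.eq_bot_or_exists_atom_le U with h1 | h1
    · exact absurd h1 hU
    · exact h1
  obtain ⟨S, hS, hSU⟩ := hex
  have hSs : IsSimpleModule K S := isSimpleModule_iff_isAtom.2 hS
  have hTop : (⊤ : Submodule K V) ≤ U := by
    rw [← IsSemisimpleModule.sSup_simples_eq_top K V]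
    refine sSup_le fun T hT => ?_
    have hT' : IsSimpleModule K T := hT
    obtain ⟨e⟩ := hiso S T
    intro t ht
    show x t = 0
    have h1 := e.map_smul ⟨x, hx⟩ ⟨t, ht⟩
    have h4 : ((e ⟨t, ht⟩ : S) : V) ∈ U := hSU (e ⟨t, ht⟩).2
    have h5 := e.map_eq_zero_iff.1 (h1.trans (Subtype.ext h4))
    exact congrArg Subtype.val h5
  ext v
  exact hTop (Submodule.mem_top (x := v))

end Cfsg.Agent.H893.KGV
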