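import Cfsg.Agent.H893.KGV.Field
import Cfsg.Agent.H540.ClassNum

/-!
# k(G) < |V|, the primitive case: a self-centralizing abelian normal subgroup (helper893)
-/

set_option autoImplicit false
set_option linter.unusedSectionVars false
set_option linter.style.haveILetI false

namespace Cfsg.Agent.H893.KGV

open Cfsg Cfsg.Agent.H960.KGV

variable {p : ℕ} [Fact p.Prime] {V : Type} [AddCommGroup V] [Module (ZMod p) V] [Finite V]

theorem gamma_of [Nontrivial V] {K : Subalgebra (ZMod p) (Module.End (ZMod p) V)} (hf : IsField K)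
    (hK : ∀ x ∈ K, x ≠ 0 → Function.Injective x) (H : Subgroup (V ≃ₗ[ZMod p] V))
    (hn : ∀ h ∈ H, ∀ x ∈ K, lm h * x * lm h⁻¹ ∈ K)
    (h1 : ∀ v w : V, v ≠ 0 → ∃ x ∈ K, x v = w) : GammaOne H := by
  have : Finite (Module.End (ZMod p) V) := finite_end
  obtain ⟨v₀, hv₀⟩ := exists_ne (0 : V)
  letI : Field K := hf.toField
  let F : K →+ V :=
    { toFun := fun x => (x : Module.End (ZMod p) V) v₀
      map_zero' := rfl
      map_add' := fun x y => rfl }
  have hF : Function.Bijective F := by
    constructor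
    · rw [injective_iff_map_eq_zero]
      intro x hx
      by_contra h2
      have h3 : (x : Module.End (ZMod p) V) ≠ 0 := fun h4 => h2 (Subtype.ext h4)
      have h4 := hK x x.2 h3
      apply hv₀
      apply h4
      rw [map_zero]
      exact hx
    · intro w
      obtain ⟨x, hx, hxw⟩ := h1 v₀ w hv₀
      exact ⟨⟨x, hx⟩, hxw⟩
  let e : V ≃+ K := (AddEquiv.ofBijective F hF).symm
  have he : ∀ v, (e v : Module.End (ZMod p) V) v₀ = v := fun v => (AddEquiv.ofBijective F hF).apply_symm_apply v
  refine ⟨K, inferInstance, inferInstance, e, fun h hh => ⟨e (h v₀), (cj H K hn ⟨h, hh⟩).toRingEquiv, fun v => ?_⟩⟩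
  apply e.symm.injective
  rw [AddEquiv.symm_apply_apply]
  show h v = ((e (h v₀) * (cj H K hn ⟨h, hh⟩) (e v) : K) : Module.End (ZMod p) V) v₀
  rw [mul_comm]
  show h v = ((lm h * (e v : Module.End (ZMod p) V) * lm h⁻¹) * (e (h v₀) : Module.End (ZMod p) V)) v₀
  rw [Module.End.mul_apply, he]
  show h v = h ((e v : Module.End (ZMod p) V) (h.symm (h v₀)))
  rw [h.symm_apply_apply, he]

/-- `2 f ≤ 2 ^ f` -/
theorem two_mul_le_pow {f q : ℕ} (hf : 1 ≤ f) (hq : 2 ≤ q) : 2 * f ≤ q ^ f := by
  have h1 : ∀ n : ℕ, 2 * (n + 1) ≤ 2 ^ (n + 1) := by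
    intro n
    induction n with
    | zero => norm_num
    | succ k ih =>
      rw [pow_succ]
      have : 2 ≤ 2 ^ (k + 1) := by
        calc 2 = 2 ^ 1 := rfl
          _ ≤ 2 ^ (k + 1) := Nat.pow_le_pow_right (by norm_num) (by omega)
      omega
  obtain ⟨k, rfl⟩ := Nat.exists_eq_add_of_le' hf
  exact (h1 k).trans (Nat.pow_le_pow_left hq _)

theorem field_case [Nontrivial V] (H : Subgroup (V ≃ₗ[ZMod p] V)) (A : Subgroup H) (hA : A.Normal)
    (hAc : ∀ x ∈ A, ∀ y ∈ A, x * y = y * x) (hC : ∀ x : H, (∀ y ∈ A, x * y = y * x) → x ∈ A)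
    (hss : IsSemisimpleModule (alg (A.map H.subtype)) V) (hiso : IsIsotypic (alg (A.map H.subtype)) V) :
    GammaOne H ∨ ∀ R : Subgroup H, 2 * Nat.card (ConjClasses R) ≤ Nat.card V := by
  have hfE : Finite (Module.End (ZMod p) V) := finite_end
  have hfG : Finite (V ≃ₗ[ZMod p] V) := finite_equiv
  have hc : ∀ x ∈ alg (A.map H.subtype), ∀ y ∈ alg (A.map H.subtype), x * y = y * x := by
    refine alg_comm _ ?_
    rintro _ ⟨x, hx, rfl⟩ _ ⟨y, hy, rfl⟩
    rw [← map_mul, ← map_mul, hAc x hx y hy]
  have hinj := inj_of_isotypic hc hss hiso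
  have hn := alg_conj H A hA
  have hf := isField (K := alg (A.map H.subtype)) hinj
  obtain ⟨f, hf1, hcK, hcA⟩ := card_field hf
  obtain ⟨m, hm, hcV, hone⟩ := card_space (V := V) hf
  rcases Nat.lt_or_ge 1 m with hm1 | hm1
  · right
    intro R
    have hp : p.Prime := Fact.out
    -- the kernel is `A`
    have hker : (cj H _ hn).ker = A := by
      ext h
      rw [mem_ker_cj hn]
      constructor
      · intro h1
        refine hC h fun y hy => ?_
        apply Subtype.ext
        apply lm_injective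
        exact h1 (lm (y : V ≃ₗ[ZMod p] V)) (Algebra.subset_adjoin ⟨y, ⟨y, hy, rfl⟩, rfl⟩)
      · intro h1 x hx
        exact hc _ (Algebra.subset_adjoin ⟨h, ⟨h, h1, rfl⟩, rfl⟩) x hx
    have hidx : A.index ≤ f := by
      rw [← hker]
      exact Nat.le_of_dvd hf1 (index_dvd hn hcA)
    -- `|A| ≤ |K| - 1`
    have hcardA : Nat.card A + 1 ≤ Nat.card (alg (A.map H.subtype)) := by
      let g : Option A → alg (A.map H.subtype) := fun o => match o with
        | none => 0
        | some a => ⟨lm ((a : H) : V ≃ₗ[ZMod p] V), Algebra.subset_adjoin ⟨_, ⟨a, a.2, rfl⟩, rfl⟩⟩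
      have hg : Function.Injective g := by
        have hne : ∀ a : A, g (some a) ≠ 0 := by
          intro a h1
          have h2 : lm ((a : H) : V ≃ₗ[ZMod p] V) = 0 := congrArg Subtype.val h1
          obtain ⟨v, hv⟩ := exists_ne (0 : V)
          apply hv
          have h3 : ((a : H) : V ≃ₗ[ZMod p] V) v = 0 := congrArg (fun x : Module.End (ZMod p) V => x v) h2
          exact (LinearEquiv.map_eq_zero_iff _).1 h3
        rintro (_ | a) (_ | b) h1
        · rfl
        · exact absurd h1.symm (hne b)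
        · exact absurd h1 (hne a)
        · congr 1
          apply Subtype.ext
          apply Subtype.ext
          exact lm_injective (congrArg Subtype.val h1)
      have h1 := Nat.card_le_card_of_injective g hg
      rwa [Finite.card_option] at h1
    have h1 : Nat.card (ConjClasses R) ≤ Nat.card H :=
      (Cfsg.Agent.H540.ClassNum.card_conjClasses_le_card).trans (Subgroup.card_le_card_group R)
    have h2 : Nat.card H = Nat.card A * A.index := (Subgroup.card_mul_index A).symm
    rw [hcK] at hcardA hcV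
    have h3 : 2 * f ≤ p ^ f := two_mul_le_pow hf1 hp.two_le
    calc 2 * Nat.card (ConjClasses R) ≤ 2 * (Nat.card A * A.index) := by rw [← h2]; omega
      _ ≤ 2 * (p ^ f * f) := by
          refine Nat.mul_le_mul_left _ (Nat.mul_le_mul ?_ hidx)
          omega
      _ = p ^ f * (2 * f) := by ring
      _ ≤ p ^ f * p ^ f := Nat.mul_le_mul_left _ h3
      _ = (p ^ f) ^ 2 := by ring
      _ ≤ (p ^ f) ^ m := Nat.pow_le_pow_right (pow_pos hp.pos _) hm1
      _ = Nat.card V := hcV.symm
  · left
    exact gamma_of hf hinj H hn (hone (by omega))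

end Cfsg.Agent.H893.KGV
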